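import Groth.Agent.EtH1PBCLib.Main
import Groth.Agent.LcRepLib.Torsion
import Groth.Agent.FEtProperLib.Main
import Groth.Agent.S0167

/-! # `H¹` of the closed fibre of a proper scheme over a henselian local ring -/

set_option autoImplicit false
set_option linter.all false
set_option backward.isDefEq.respectTransparency false
set_option backward.isDefEq.respectTransparency.types false
set_option synthInstance.maxHeartbeats 400000
set_option maxHeartbeats 1000000

universe u

open CategoryTheory CategoryTheory.Limits CategoryTheory.Abelian AlgebraicGeometry Opposite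
open Groth.Agent Groth.Agent.EtShLib

noncomputable section

namespace EtH1PBC

variable (A : Type u) [CommRing A] [HenselianLocalRing A] {X : Scheme.{u}} (f : X ⟶ Spec (CommRingCat.of A)) [IsProper f]

/-- The inclusion of the closed fibre. -/
abbrev i₀ : pullback f (Spec.map (CommRingCat.ofHom (Ideal.Quotient.mk (IsLocalRing.maximalIdeal A)))) ⟶ X :=
  pullback.fst f _

theorem bijective_Hpull_zero [PreservesFiniteLimits (EtCoh.pull (i₀ A f))] (G : EtCoh.Ab X) :
    Function.Bijective (EtCore.Hpull (i₀ A f) G 0) := by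
  have h := Groth.Agent.S0167.result A X f G
  let R := ((EtCoh.pull (i₀ A f)).obj G).obj.map (EtCore.bcTopIso (i₀ A f)).inv.op
  have hR : Function.Bijective R := ConcreteCategory.bijective_of_isIso R
  have he : (EtContLib.sec ∘ EtCore.Hpull (i₀ A f) G 0 : _ → _) =
      R ∘ (((EtCoh.pullPushAdj (i₀ A f)).unit.app G).hom.app (op (EtCoh.top X))) ∘ EtContLib.sec :=
    funext fun e => LocAcycStalkLib.sec_Hpull (i₀ A f) G e
  refine (Function.Bijective.of_comp_iff' (f := EtContLib.sec) ⟨EtContLib.sec_injective, EtContLib.sec_surjective⟩ _).1 ?_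
  rw [he]
  exact hR.comp (h.comp ⟨EtContLib.sec_injective, EtContLib.sec_surjective⟩)

theorem bijective_Hpull_one (F : EtCoh.Ab X) (hF : LC (fun M : AddCommGrpCat.{u + 1} => Finite M) F)
    [PreservesFiniteLimits (EtCoh.pull (i₀ A f))] :
    Function.Bijective (EtCore.Hpull (i₀ A f) F 1) := by
  haveI := EtCore.pull_preservesFiniteColimits (i₀ A f)
  have h0 := bijective_Hpull_zero A f
  refine ⟨(injective_iff_map_eq_zero _).2 fun ζ hζ => ?_, fun ζ => ?_⟩
  · obtain ⟨Y, g, _, _, _, hg⟩ := LcRepLib.exists_finite_etale_killing F hF ζ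
    exact eq_zero_of_killed _ h0 g F ζ hg hζ
  · obtain ⟨Y₀, g₀, _, _, _, hg₀⟩ := LcRepLib.exists_finite_etale_killing _ (LC.pull (f := i₀ A f) hF) ζ
    obtain ⟨U, u, q, hu, hu', hq⟩ := FEtProper.exists_lift (IsLocalRing.maximalIdeal A) f g₀
    haveI := hu
    haveI := hu'
    haveI : Surjective u := by
      refine ⟨fun x => (Set.eq_univ_iff_forall.1 (ClopenFFLib.eq_univ_of_preimage _
        (FEtProper.clopenBij (IsLocalRing.maximalIdeal A) f) (Y := MorphismProperty.Over.mk ⊤ (𝟙 X) ⟨inferInstance, inferInstance⟩)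
        (D := Set.range u) ⟨u.isClosedMap.isClosed_range, u.isOpenMap.isOpen_range⟩ ?_) x)⟩
      refine Set.eq_univ_of_forall fun p => ?_
      obtain ⟨y, hy⟩ := g₀.surjective (pullback.snd (𝟙 X) (i₀ A f) p)
      refine ⟨q y, ?_⟩
      rw [← Scheme.Hom.comp_apply, hq.w, Scheme.Hom.comp_apply, hy, ← Scheme.Hom.comp_apply, ← pullback.condition,
        Category.comp_id]
      rfl
    refine mem_range_of_killed _ h0 u F ζ ?_
    have e : hq.isoPullback.inv ≫ g₀ = pullback.snd u (i₀ A f) := hq.isoPullback_inv_snd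
    have h1 := CovDevLib.Hpull_comp hq.isoPullback.inv g₀ _ e _ 1 ζ
    rw [hg₀, map_zero, Ext.zero_comp] at h1
    exact h1.symm

end EtH1PBC

end
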