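import Groth.Agent.CovDevLib.Base
import Groth.Agent.EtAcycLib.Chase
import Groth.Agent.EtBcQLib.Main
import Groth.Agent.LcRepLib.Kill

/-! # Pullback on `H¹` for classes killed by finite covers -/

set_option autoImplicit false
set_option linter.all false
set_option backward.isDefEq.respectTransparency false
set_option backward.isDefEq.respectTransparency.types false
set_option synthInstance.maxHeartbeats 400000
set_option maxHeartbeats 1000000

universe u

open CategoryTheory CategoryTheory.Limits CategoryTheory.Abelian AlgebraicGeometry Opposite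
open Groth.Agent Groth.Agent.EtShLib

noncomputable section

namespace EtH1PBC

variable {X X₀ : Scheme.{u}} (i : X₀ ⟶ X) [PreservesFiniteLimits (EtCoh.pull i)]
  [PreservesFiniteColimits (EtCoh.pull i)]

/-- The sequence of a cover. -/
abbrev covSeq {Y : Scheme.{u}} (g : Y ⟶ X) (F : EtCoh.Ab X) : ShortComplex (EtCoh.Ab X) :=
  ShortComplex.mk ((EtCoh.pullPushAdj g).unit.app F) (cokernel.π ((EtCoh.pullPushAdj g).unit.app F))
    (cokernel.condition _)

theorem covSeq_shortExact {Y : Scheme.{u}} (g : Y ⟶ X) [Surjective g] (F : EtCoh.Ab X) : (covSeq g F).ShortExact :=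
  { exact := ShortComplex.exact_of_g_is_cokernel _ (cokernelIsCokernel _)
    mono_f := EtBcQLib.mono_unit g g.surjective F
    epi_g := inferInstanceAs (Epi (cokernel.π _)) }

variable (h0 : ∀ G : EtCoh.Ab X, Function.Bijective (EtCore.Hpull i G 0))

include h0 in
theorem eq_zero_of_killed {Y : Scheme.{u}} (g : Y ⟶ X) [IsFinite g] [Surjective g] (F : EtCoh.Ab X)
    [PreservesFiniteLimits (EtCoh.pull g)] (ζ : EtCoh.H X F 1) (hg : EtCore.Hpull g F 1 ζ = 0)
    (hi : EtCore.Hpull i F 1 ζ = 0) : ζ = 0 := by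
  have hT := covSeq_shortExact g F
  have hz : ζ.comp (Ext.mk₀ (covSeq g F).f) (add_zero 1) = 0 := by
    refine (CovDevLib.bijective_mu (p := g) ((EtCoh.pull g).obj F) 1).1 ?_
    show (EtCore.Hpull g _ 1 (ζ.comp (Ext.mk₀ _) (add_zero 1))).comp _ _ = CovDevLib.mu _ 1 0
    rw [EtAcycLib.Hpull_postcomp, hg, Ext.zero_comp, Ext.zero_comp]
    refine Eq.symm ?_
    show (EtCore.Hpull g _ 1 0).comp _ _ = 0
    rw [map_zero, Ext.zero_comp]
  obtain ⟨c, rfl⟩ := Ext.covariant_sequence_exact₁ _ hT ζ hz rfl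
  have hd := EtAcycLib.Hpull_delta i hT c
  replace hi := hd.symm.trans hi
  obtain ⟨b₀, hb₀⟩ := Ext.covariant_sequence_exact₃ _ (hT.map_of_exact (EtCoh.pull i)) (EtCore.Hpull i _ 0 c) rfl hi
  obtain ⟨b, rfl⟩ := (h0 _).2 b₀
  have hc : b.comp (Ext.mk₀ (covSeq g F).g) (add_zero 0) = c := by
    refine (h0 _).1 ?_
    rw [EtAcycLib.Hpull_postcomp]
    exact hb₀
  rw [← hc, Ext.comp_assoc_of_second_deg_zero, hT.comp_extClass, Ext.comp_zero]

include h0 in
theorem mem_range_of_killed {Y : Scheme.{u}} (g : Y ⟶ X) [IsFinite g] [Surjective g] (F : EtCoh.Ab X)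
    [PreservesFiniteLimits (EtCoh.pull g)] [PreservesFiniteLimits (EtCoh.pull (pullback.snd g i))]
    [PreservesFiniteLimits (EtCoh.pull (pullback.fst g i))]
    (ζ : EtCoh.H X₀ ((EtCoh.pull i).obj F) 1) (hg : EtCore.Hpull (pullback.snd g i) _ 1 ζ = 0) :
    ∃ η, EtCore.Hpull i F 1 η = ζ := by
  have hT := covSeq_shortExact g F
  have hc := IsPullback.of_hasPullback g i
  haveI : IsFinite (pullback.snd g i) := MorphismProperty.pullback_snd _ _ ‹IsFinite g›
  have hz : ζ.comp (Ext.mk₀ ((EtCoh.pull i).map (covSeq g F).f)) (add_zero 1) = 0 := by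
    refine (CovDevLib.bijective_bc_mu hc ((EtCoh.pull g).obj F) 1).1 ?_
    show (EtCore.Hpull (pullback.snd g i) _ 1 ((ζ.comp (Ext.mk₀ _) (add_zero 1)).comp (Ext.mk₀ _) (add_zero 1))).comp _ _ =
      (EtCore.Hpull (pullback.snd g i) _ 1 (Ext.comp 0 (Ext.mk₀ _) (add_zero 1))).comp _ _
    rw [EtAcycLib.Hpull_postcomp, EtAcycLib.Hpull_postcomp, hg, Ext.zero_comp, Ext.zero_comp, Ext.zero_comp,
      Ext.zero_comp]
    erw [map_zero]
    rw [Ext.zero_comp]
  obtain ⟨c₀, hc₀⟩ := Ext.covariant_sequence_exact₁ _ (hT.map_of_exact (EtCoh.pull i)) ζ hz rfl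
  obtain ⟨c, rfl⟩ := (h0 _).2 c₀
  exact ⟨c.comp hT.extClass rfl, (EtAcycLib.Hpull_delta i hT c).trans hc₀⟩

end EtH1PBC

end
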